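import Cfsg.Agent.Chev.All
import Cfsg.Agent.Chev.Torus

/-! Cartan matrices, Coxeter matrices, centres and Poincaré polynomials of the seven types. -/

namespace CF.Chev

open Cfsg.Lie

/-- A matrix given by a list of rows. -/
def matL {m n : ℕ} (L : List (List ℤ)) (i : Fin m) (j : Fin n) : ℤ := (L.getD i []).getD j 0

theorem IsLink.car_of_chk {D : ChevalleyDatum} {C : LieBasis (Fin D.rank) (Fin D.nroots)}
    (L : IsLink D C) {cm : List (List ℤ)} (h : ∀ i j, carD D i j = matL cm i j) (i j : Fin D.rank) :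
    C.car i j = (cm.getD i []).getD j 0 := by rw [L.car_eq, h]; rfl

theorem RootSys.cen_of_chk {n : ℕ} {ι : Type} [Fintype ι] [DecidableEq ι] {R : RootSys (Fin n) ι}
    {cm : List (List ℤ)} (hcm : ∀ i j : Fin n, R.car i j = (cm.getD i []).getD j 0) (m d : ℕ)
    (P Q V V' : List (List ℤ))
    (h : CenData (B := Fin n) (matL cm) m d (matL P) (matL Q) (matL V) (matL V')) : R.Cen m d :=
  ⟨_, _, _, _, (funext₂ hcm : R.car = matL cm) ▸ h⟩

theorem IsLink.card_group {D : ChevalleyDatum} {C : ChevBasis (Fin D.rank) (Fin D.nroots)}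
    (L : IsLink D C.toLieBasis) {m d N l : ℕ} (hc : C.Cen m d) (hN : D.nroots / 2 = N)
    (hl : D.rank = l) (F : Type*) [Field F] [Finite F] :
    Nat.gcd d (Nat.card F - 1) ^ m * Nat.card (D.group F) =
      Nat.card F ^ N * ((Nat.card F - 1) ^ l * C.poin Set.univ (Nat.card F)) := by
  rw [L.group_eq, StRep.card_adSt hc, Fintype.card_fin, Fintype.card_fin, hN, ← hl]

/-- The Cartan matrix of type G2. -/
def cmG2 : List (List ℤ) := [[2, -3], [-1, 2]]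

theorem carG2 : ∀ i j : Fin 2, cbG2.car i j = (cmG2.getD i []).getD j 0 :=
  linkG2.car_of_chk (by decide +kernel)

theorem cenG2 : cbG2.Cen 0 1 :=
  RootSys.cen_of_chk (n := 2) carG2 0 1 [[], []] [] []
    [[-2, -1], [-3, -2]] (by decide +kernel)

theorem coxG2 (i j : Fin 2) : orderOf (cbG2.wp [i, j]) = CoxeterMatrix.G₂ i j :=
  RootSys.orderOf_wp (n := 2) carG2
    ((by decide +kernel : ∀ i j : Fin 2, chkOrd cmG2 [i, j] (CoxeterMatrix.G₂ i j) = true) i j)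

theorem coxEltG2 : orderOf (cbG2.wp (List.finRange 2)) = 6 :=
  RootSys.orderOf_wp (n := 2) carG2 (by decide +kernel)

theorem poinG2' (q : ℕ) : cbG2.poin Set.univ q =
    (List.map (hornerN q) [[1, 1, 1, 1, 1, 1], [1, 1]]).prod :=
  RootSys.poin_univ_eq (n := 2) carG2 7 [0, 1] _ (by decide +kernel) q

theorem cardWG2 : Nat.card cbG2.W = 12 := by
  rw [← RootSys.WJ_univ, ← RootSys.poin_one, poinG2']; decide +kernel

theorem poinG2 {q : ℕ} (hq : 1 ≤ q) : (q - 1) ^ 2 * cbG2.poin Set.univ q =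
    (q ^ 2 - 1) * (q ^ 6 - 1) := by
  have h := fun n => Nat.one_le_pow n q hq
  rw [poinG2']
  simp only [List.map, List.prod_cons, List.prod_nil, hornerN_cons, hornerN_nil]
  zify [hq, h]
  ring

theorem cardG2 (F : Type*) [Field F] [Finite F] {q : ℕ} (hq : Nat.card F = q) :
    Nat.card (chevG2.group F) =
      q ^ 6 * (q ^ 2 - 1) * (q ^ 6 - 1) := by
  subst hq
  have h := linkG2.card_group cenG2 (N := 6) (l := 2) rfl rfl F
  rw [poinG2 Nat.card_pos] at h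
  simpa [mul_assoc] using h

/-- The Cartan matrix of type B2. -/
def cmB2 : List (List ℤ) := [[2, -2], [-1, 2]]

theorem carB2 : ∀ i j : Fin 2, cbB2.car i j = (cmB2.getD i []).getD j 0 :=
  linkB2.car_of_chk (by decide +kernel)

theorem cenB2 : cbB2.Cen 1 2 :=
  RootSys.cen_of_chk (n := 2) carB2 1 2 [[1], [0]] [[1, 0]] [[2, 1]]
    [[0, 0], [-1, -1]] (by decide +kernel)

theorem coxB2 (i j : Fin 2) : orderOf (cbB2.wp [i, j]) = (CoxeterMatrix.B 2) i j :=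
  RootSys.orderOf_wp (n := 2) carB2
    ((by decide +kernel : ∀ i j : Fin 2, chkOrd cmB2 [i, j] ((CoxeterMatrix.B 2) i j) = true) i j)

theorem coxEltB2 : orderOf (cbB2.wp (List.finRange 2)) = 4 :=
  RootSys.orderOf_wp (n := 2) carB2 (by decide +kernel)

theorem poinB2' (q : ℕ) : cbB2.poin Set.univ q =
    (List.map (hornerN q) [[1, 1, 1, 1], [1, 1]]).prod :=
  RootSys.poin_univ_eq (n := 2) carB2 5 [0, 1] _ (by decide +kernel) q

theorem cardWB2 : Nat.card cbB2.W = 8 := by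
  rw [← RootSys.WJ_univ, ← RootSys.poin_one, poinB2']; decide +kernel

theorem poinB2 {q : ℕ} (hq : 1 ≤ q) : (q - 1) ^ 2 * cbB2.poin Set.univ q =
    (q ^ 2 - 1) * (q ^ 4 - 1) := by
  have h := fun n => Nat.one_le_pow n q hq
  rw [poinB2']
  simp only [List.map, List.prod_cons, List.prod_nil, hornerN_cons, hornerN_nil]
  zify [hq, h]
  ring

theorem cardB2 (F : Type*) [Field F] [Finite F] {q : ℕ} (hq : Nat.card F = q) :
    Nat.gcd 2 (q - 1) * Nat.card (chevB2.group F) =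
      q ^ 4 * (q ^ 2 - 1) * (q ^ 4 - 1) := by
  subst hq
  have h := linkB2.card_group cenB2 (N := 4) (l := 2) rfl rfl F
  rw [poinB2 Nat.card_pos] at h
  simpa [mul_assoc] using h

/-- The Cartan matrix of type D4. -/
def cmD4 : List (List ℤ) := [[2, -1, 0, 0], [-1, 2, -1, -1], [0, -1, 2, 0], [0, -1, 0, 2]]

theorem carD4 : ∀ i j : Fin 4, cbD4.car i j = (cmD4.getD i []).getD j 0 :=
  linkD4.car_of_chk (by decide +kernel)

theorem cenD4 : cbD4.Cen 2 2 :=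
  RootSys.cen_of_chk (n := 4) carD4 2 2 [[0, 1], [0, 0], [1, 0], [1, 1]] [[0, 0, 1, 0], [1, 0, 0, 0]] [[1, 2, 2, 1], [2, 2, 1, 1]]
    [[0, 0, 0, 0], [-1, -2, -1, -1], [0, 0, 0, 0], [1, 1, 1, 0]] (by decide +kernel)

theorem coxD4 (i j : Fin 4) : orderOf (cbD4.wp [i, j]) = coxeterD4 i j :=
  RootSys.orderOf_wp (n := 4) carD4
    ((by decide +kernel : ∀ i j : Fin 4, chkOrd cmD4 [i, j] (coxeterD4 i j) = true) i j)

theorem coxEltD4 : orderOf (cbD4.wp (List.finRange 4)) = 6 :=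
  RootSys.orderOf_wp (n := 4) carD4 (by decide +kernel)

theorem poinD4' (q : ℕ) : cbD4.poin Set.univ q =
    (List.map (hornerN q) [[1, 1, 1, 2, 1, 1, 1], [1, 1, 1, 1], [1, 1, 1], [1, 1]]).prod :=
  RootSys.poin_univ_eq (n := 4) carD4 8 [0, 2, 1, 3] _ (by decide +kernel) q

theorem cardWD4 : Nat.card cbD4.W = 192 := by
  rw [← RootSys.WJ_univ, ← RootSys.poin_one, poinD4']; decide +kernel

theorem poinD4 {q : ℕ} (hq : 1 ≤ q) : (q - 1) ^ 4 * cbD4.poin Set.univ q =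
    (q ^ 2 - 1) * (q ^ 4 - 1) * (q ^ 4 - 1) * (q ^ 6 - 1) := by
  have h := fun n => Nat.one_le_pow n q hq
  rw [poinD4']
  simp only [List.map, List.prod_cons, List.prod_nil, hornerN_cons, hornerN_nil]
  zify [hq, h]
  ring

theorem cardD4 (F : Type*) [Field F] [Finite F] {q : ℕ} (hq : Nat.card F = q) :
    Nat.gcd 2 (q - 1) ^ 2 * Nat.card (chevD4.group F) =
      q ^ 12 * (q ^ 2 - 1) * (q ^ 4 - 1) * (q ^ 4 - 1) * (q ^ 6 - 1) := by
  subst hq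
  have h := linkD4.card_group cenD4 (N := 12) (l := 4) rfl rfl F
  rw [poinD4 Nat.card_pos] at h
  simpa [mul_assoc] using h

/-- The Cartan matrix of type F4. -/
def cmF4 : List (List ℤ) := [[2, -1, 0, 0], [-1, 2, -2, 0], [0, -1, 2, -1], [0, 0, -1, 2]]

theorem carF4 : ∀ i j : Fin 4, cbF4.car i j = (cmF4.getD i []).getD j 0 :=
  linkF4.car_of_chk (by decide +kernel)

theorem cenF4 : cbF4.Cen 0 1 :=
  RootSys.cen_of_chk (n := 4) carF4 0 1 [[], [], [], []] [] []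
    [[-2, -3, -2, -1], [-3, -6, -4, -2], [-4, -8, -6, -3], [-2, -4, -3, -2]] (by decide +kernel)

theorem coxF4 (i j : Fin 4) : orderOf (cbF4.wp [i, j]) = CoxeterMatrix.F₄ i j :=
  RootSys.orderOf_wp (n := 4) carF4
    ((by decide +kernel : ∀ i j : Fin 4, chkOrd cmF4 [i, j] (CoxeterMatrix.F₄ i j) = true) i j)

theorem coxEltF4 : orderOf (cbF4.wp (List.finRange 4)) = 12 :=
  RootSys.orderOf_wp (n := 4) carF4 (by decide +kernel)

theorem poinF4' (q : ℕ) : cbF4.poin Set.univ q =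
    (List.map (hornerN q) [[1, 1, 1, 1, 2, 2, 2, 2, 2, 2, 2, 2, 1, 1, 1, 1], [1, 1, 1, 1, 1, 1], [1, 1, 1, 1], [1, 1]]).prod :=
  RootSys.poin_univ_eq (n := 4) carF4 17 [0, 3, 1, 2] _ (by decide +kernel) q

theorem cardWF4 : Nat.card cbF4.W = 1152 := by
  rw [← RootSys.WJ_univ, ← RootSys.poin_one, poinF4']; decide +kernel

theorem poinF4 {q : ℕ} (hq : 1 ≤ q) : (q - 1) ^ 4 * cbF4.poin Set.univ q =
    (q ^ 2 - 1) * (q ^ 6 - 1) * (q ^ 8 - 1) * (q ^ 12 - 1) := by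
  have h := fun n => Nat.one_le_pow n q hq
  rw [poinF4']
  simp only [List.map, List.prod_cons, List.prod_nil, hornerN_cons, hornerN_nil]
  zify [hq, h]
  ring

theorem cardF4 (F : Type*) [Field F] [Finite F] {q : ℕ} (hq : Nat.card F = q) :
    Nat.card (chevF4.group F) =
      q ^ 24 * (q ^ 2 - 1) * (q ^ 6 - 1) * (q ^ 8 - 1) * (q ^ 12 - 1) := by
  subst hq
  have h := linkF4.card_group cenF4 (N := 24) (l := 4) rfl rfl F
  rw [poinF4 Nat.card_pos] at h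
  simpa [mul_assoc] using h

/-- The Cartan matrix of type E6. -/
def cmE6 : List (List ℤ) := [[2, 0, -1, 0, 0, 0], [0, 2, 0, -1, 0, 0], [-1, 0, 2, -1, 0, 0], [0, -1, -1, 2, -1, 0], [0, 0, 0, -1, 2, -1], [0, 0, 0, 0, -1, 2]]

theorem carE6 : ∀ i j : Fin 6, cbE6.car i j = (cmE6.getD i []).getD j 0 :=
  linkE6.car_of_chk (by decide +kernel)

theorem cenE6 : cbE6.Cen 1 3 :=
  RootSys.cen_of_chk (n := 6) carE6 1 3 [[1], [0], [2], [0], [1], [2]] [[1, 0, 0, 0, 0, 0]] [[4, 3, 5, 6, 4, 2]]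
    [[0, 0, 0, 0, 0, 0], [-1, -2, -2, -3, -2, -1], [1, 0, 0, 0, 0, 0], [-2, -3, -4, -6, -4, -2], [0, -1, -1, -2, -2, -1], [2, 1, 2, 2, 1, 0]] (by decide +kernel)

theorem coxE6 (i j : Fin 6) : orderOf (cbE6.wp [i, j]) = CoxeterMatrix.E₆ i j :=
  RootSys.orderOf_wp (n := 6) carE6
    ((by decide +kernel : ∀ i j : Fin 6, chkOrd cmE6 [i, j] (CoxeterMatrix.E₆ i j) = true) i j)

theorem coxEltE6 : orderOf (cbE6.wp (List.finRange 6)) = 12 :=
  RootSys.orderOf_wp (n := 6) carE6 (by decide +kernel)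

theorem poinE6' (q : ℕ) : cbE6.poin Set.univ q =
    (List.map (hornerN q) [[1, 1, 1, 1, 2, 2, 2, 2, 3, 2, 2, 2, 2, 1, 1, 1, 1], [1, 1, 1, 1, 2, 1, 1, 1, 1], [1, 1, 1, 2, 1, 1, 1], [1, 1, 1, 1], [1, 1, 1], [1, 1]]).prod :=
  RootSys.poin_univ_eq (n := 6) carE6 18 [5, 0, 1, 2, 3, 4] _ (by decide +kernel) q

theorem cardWE6 : Nat.card cbE6.W = 51840 := by
  rw [← RootSys.WJ_univ, ← RootSys.poin_one, poinE6']; decide +kernel

theorem poinE6 {q : ℕ} (hq : 1 ≤ q) : (q - 1) ^ 6 * cbE6.poin Set.univ q =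
    (q ^ 2 - 1) * (q ^ 5 - 1) * (q ^ 6 - 1) * (q ^ 8 - 1) * (q ^ 9 - 1) * (q ^ 12 - 1) := by
  have h := fun n => Nat.one_le_pow n q hq
  rw [poinE6']
  simp only [List.map, List.prod_cons, List.prod_nil, hornerN_cons, hornerN_nil]
  zify [hq, h]
  ring

theorem cardE6 (F : Type*) [Field F] [Finite F] {q : ℕ} (hq : Nat.card F = q) :
    Nat.gcd 3 (q - 1) * Nat.card (chevE6.group F) =
      q ^ 36 * (q ^ 2 - 1) * (q ^ 5 - 1) * (q ^ 6 - 1) * (q ^ 8 - 1) * (q ^ 9 - 1) * (q ^ 12 - 1) := by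
  subst hq
  have h := linkE6.card_group cenE6 (N := 36) (l := 6) rfl rfl F
  rw [poinE6 Nat.card_pos] at h
  simpa [mul_assoc] using h

/-- The Cartan matrix of type E7. -/
def cmE7 : List (List ℤ) := [[2, 0, -1, 0, 0, 0, 0], [0, 2, 0, -1, 0, 0, 0], [-1, 0, 2, -1, 0, 0, 0], [0, -1, -1, 2, -1, 0, 0], [0, 0, 0, -1, 2, -1, 0], [0, 0, 0, 0, -1, 2, -1], [0, 0, 0, 0, 0, -1, 2]]

theorem carE7 : ∀ i j : Fin 7, cbE7.car i j = (cmE7.getD i []).getD j 0 :=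
  linkE7.car_of_chk (by decide +kernel)

theorem cenE7 : cbE7.Cen 1 2 :=
  RootSys.cen_of_chk (n := 7) carE7 1 2 [[0], [1], [0], [0], [1], [0], [1]] [[0, 1, 0, 0, 0, 0, 0]] [[4, 7, 8, 12, 9, 6, 3]]
    [[-2, -2, -3, -4, -3, -2, -1], [0, 0, 0, 0, 0, 0, 0], [-3, -4, -6, -8, -6, -4, -2], [-4, -6, -8, -12, -9, -6, -3], [-1, -1, -2, -3, -3, -2, -1], [-2, -3, -4, -6, -5, -4, -2], [1, 2, 2, 3, 2, 1, 0]] (by decide +kernel)

theorem coxE7 (i j : Fin 7) : orderOf (cbE7.wp [i, j]) = CoxeterMatrix.E₇ i j :=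
  RootSys.orderOf_wp (n := 7) carE7
    ((by decide +kernel : ∀ i j : Fin 7, chkOrd cmE7 [i, j] (CoxeterMatrix.E₇ i j) = true) i j)

theorem coxEltE7 : orderOf (cbE7.wp (List.finRange 7)) = 18 :=
  RootSys.orderOf_wp (n := 7) carE7 (by decide +kernel)

theorem poinE7' (q : ℕ) : cbE7.poin Set.univ q =
    (List.map (hornerN q) [[1, 1, 1, 1, 1, 2, 2, 2, 2, 3, 3, 3, 3, 3, 3, 3, 3, 3, 3, 2, 2, 2, 2, 1, 1, 1, 1, 1], [1, 1, 1, 1, 2, 2, 2, 2, 3, 2, 2, 2, 2, 1, 1, 1, 1], [1, 1, 1, 1, 2, 1, 1, 1, 1], [1, 1, 1, 2, 1, 1, 1], [1, 1, 1, 1], [1, 1, 1], [1, 1]]).prod :=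
  RootSys.poin_univ_eq (n := 7) carE7 29 [6, 5, 0, 1, 2, 3, 4] _ (by decide +kernel) q

theorem cardWE7 : Nat.card cbE7.W = 2903040 := by
  rw [← RootSys.WJ_univ, ← RootSys.poin_one, poinE7']; decide +kernel

theorem poinE7 {q : ℕ} (hq : 1 ≤ q) : (q - 1) ^ 7 * cbE7.poin Set.univ q =
    (q ^ 2 - 1) * (q ^ 6 - 1) * (q ^ 8 - 1) * (q ^ 10 - 1) * (q ^ 12 - 1) * (q ^ 14 - 1) * (q ^ 18 - 1) := by
  have h := fun n => Nat.one_le_pow n q hq
  rw [poinE7']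
  simp only [List.map, List.prod_cons, List.prod_nil, hornerN_cons, hornerN_nil]
  zify [hq, h]
  ring

theorem cardE7 (F : Type*) [Field F] [Finite F] {q : ℕ} (hq : Nat.card F = q) :
    Nat.gcd 2 (q - 1) * Nat.card (chevE7.group F) =
      q ^ 63 * (q ^ 2 - 1) * (q ^ 6 - 1) * (q ^ 8 - 1) * (q ^ 10 - 1) * (q ^ 12 - 1) * (q ^ 14 - 1) * (q ^ 18 - 1) := by
  subst hq
  have h := linkE7.card_group cenE7 (N := 63) (l := 7) rfl rfl F
  rw [poinE7 Nat.card_pos] at h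
  simpa [mul_assoc] using h

/-- The Cartan matrix of type E8. -/
def cmE8 : List (List ℤ) := [[2, 0, -1, 0, 0, 0, 0, 0], [0, 2, 0, -1, 0, 0, 0, 0], [-1, 0, 2, -1, 0, 0, 0, 0], [0, -1, -1, 2, -1, 0, 0, 0], [0, 0, 0, -1, 2, -1, 0, 0], [0, 0, 0, 0, -1, 2, -1, 0], [0, 0, 0, 0, 0, -1, 2, -1], [0, 0, 0, 0, 0, 0, -1, 2]]

theorem carE8 : ∀ i j : Fin 8, cbE8.car i j = (cmE8.getD i []).getD j 0 :=
  linkE8.car_of_chk (by decide +kernel)

theorem cenE8 : cbE8.Cen 0 1 :=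
  RootSys.cen_of_chk (n := 8) carE8 0 1 [[], [], [], [], [], [], [], []] [] []
    [[-4, -5, -7, -10, -8, -6, -4, -2], [-5, -8, -10, -15, -12, -9, -6, -3], [-7, -10, -14, -20, -16, -12, -8, -4], [-10, -15, -20, -30, -24, -18, -12, -6], [-8, -12, -16, -24, -20, -15, -10, -5], [-6, -9, -12, -18, -15, -12, -8, -4], [-4, -6, -8, -12, -10, -8, -6, -3], [-2, -3, -4, -6, -5, -4, -3, -2]] (by decide +kernel)

theorem coxE8 (i j : Fin 8) : orderOf (cbE8.wp [i, j]) = CoxeterMatrix.E₈ i j :=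
  RootSys.orderOf_wp (n := 8) carE8
    ((by decide +kernel : ∀ i j : Fin 8, chkOrd cmE8 [i, j] (CoxeterMatrix.E₈ i j) = true) i j)

theorem coxEltE8 : orderOf (cbE8.wp (List.finRange 8)) = 30 :=
  RootSys.orderOf_wp (n := 8) carE8 (by decide +kernel)

theorem poinE8' (q : ℕ) : cbE8.poin Set.univ q =
    (List.map (hornerN q) [[1, 1, 1, 1, 1, 1, 2, 2, 2, 2, 3, 3, 4, 4, 4, 4, 5, 5, 6, 6, 6, 6, 7, 7, 7, 7, 7, 7, 8, 8, 7, 7, 7, 7, 7, 7, 6, 6, 6, 6, 5, 5, 4, 4, 4, 4, 3, 3, 2, 2, 2, 2, 1, 1, 1, 1, 1, 1], [1, 1, 1, 1, 1, 2, 2, 2, 2, 3, 3, 3, 3, 3, 3, 3, 3, 3, 3, 2, 2, 2, 2, 1, 1, 1, 1, 1], [1, 1, 1, 1, 2, 2, 2, 2, 3, 2, 2, 2, 2, 1, 1, 1, 1], [1, 1, 1, 1, 2, 1, 1, 1, 1], [1, 1, 1, 2, 1, 1, 1], [1, 1, 1, 1], [1, 1, 1], [1, 1]]).prod :=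
  RootSys.poin_univ_eq (n := 8) carE8 59 [7, 6, 5, 0, 1, 2, 3, 4] _ (by decide +kernel) q

theorem cardWE8 : Nat.card cbE8.W = 696729600 := by
  rw [← RootSys.WJ_univ, ← RootSys.poin_one, poinE8']; decide +kernel

theorem poinE8 {q : ℕ} (hq : 1 ≤ q) : (q - 1) ^ 8 * cbE8.poin Set.univ q =
    (q ^ 2 - 1) * (q ^ 8 - 1) * (q ^ 12 - 1) * (q ^ 14 - 1) * (q ^ 18 - 1) * (q ^ 20 - 1) * (q ^ 24 - 1) * (q ^ 30 - 1) := by
  have h := fun n => Nat.one_le_pow n q hq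
  rw [poinE8']
  simp only [List.map, List.prod_cons, List.prod_nil, hornerN_cons, hornerN_nil]
  zify [hq, h]
  ring

theorem cardE8 (F : Type*) [Field F] [Finite F] {q : ℕ} (hq : Nat.card F = q) :
    Nat.card (chevE8.group F) =
      q ^ 120 * (q ^ 2 - 1) * (q ^ 8 - 1) * (q ^ 12 - 1) * (q ^ 14 - 1) * (q ^ 18 - 1) * (q ^ 20 - 1) * (q ^ 24 - 1) * (q ^ 30 - 1) := by
  subst hq
  have h := linkE8.card_group cenE8 (N := 120) (l := 8) rfl rfl F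
  rw [poinE8 Nat.card_pos] at h
  simpa [mul_assoc] using h

end CF.Chev
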