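import Cfsg.Agent.Chev.SsC
import Cfsg.Agent.Classical.SL2Class
import Cfsg.Agent.Loc.Misc2

/-! Involutions of `G₂(q)`, `F₄(q)` and `E₈(q)` for odd `q`. -/

namespace CF.Chev

open Finset CF.BN Cfsg Cfsg.Lie Matrix
open scoped MatrixGroups

section
variable {B ι : Type} [Fintype B] [DecidableEq B] [Fintype ι] [DecidableEq ι]
  {C : ChevBasis B ι} {K : Type*} [Field K] {G : Type*} [Group G] {ρ : StRep C K G}

theorem exists_sl2_injective (h : Univ ρ) {r : ι} (hr : C.Pos r) {i : B} (hi : C.cov r i = 1) :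
    ∃ φ : SL(2, K) →* G, Function.Injective φ ∧ φ.range = ρ.X r ⊔ ρ.X (C.neg r) ∧
      φ (-1) = ρ.h r (-1) := by
  obtain ⟨φ, h1, h2, h3, -, h4⟩ := h.r3.exists_hom_sl2 r
  refine ⟨φ, (injective_iff_map_eq_one _).2 fun g hg => ?_, h1, (congrArg φ
    (Subtype.ext ((val_sl2_h_true _).trans ?_)).symm).trans (h4 _)⟩
  · suffices h0 : φ.ker ≤ (sl2Rep K).Bo by
      obtain ⟨c, -, rfl⟩ := ((r3_sl2Rep K).center_eq (faithful_sl2Rep K) (sl2Rep_Gp K)).le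
        (StRep.le_center_of_le_Bo (faithful_sl2Rep K) (sl2Rep_Gp K) h0 hg)
      rw [tor_A1, h4, h.r3.h_eq_tor, map_eq_one_iff _ h.inj] at hg
      rw [show c = 1 from funext fun _ => by simpa [hi] using congrFun hg i, map_one]
    intro g hg
    obtain ⟨w, u, hu, n, hn, u', hu', rfl⟩ := exists_unu (sl2Rep_Gp K) g
    have hU : ∀ u ∈ (sl2Rep K).Up, φ u ∈ ρ.Up := fun u hu =>
      ((sl2Rep K).U_le_iff (H := ρ.Up.comap φ)).2 (fun s hs t => by
        obtain rfl := (cbA1_pos s).1 hs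
        exact Subgroup.mem_comap.2 (h2 t ▸ ρ.x_mem_U hr t : φ (sl2x K true t) ∈ _)) hu
    obtain ⟨c, hc⟩ := hn.acts.exists_conj_x true
    obtain rfl : w = 1 := cbA1.eq_one_of_simple_pos hn.mem_W fun _ => by_contra fun h5 => by
      have h6 := mul_mem (inv_mem (hU u hu)) (inv_mem (hU u' ((sl2Rep K).Uw_le_Up _ hu')))
      rw [show (φ u)⁻¹ * (φ u')⁻¹ = φ n by
        rw [← mul_one (φ u)⁻¹, ← (MonoidHom.mem_ker.1 hg)]; simp [mul_assoc]] at h6
      have h7 := mul_mem (mul_mem h6 (ρ.x_mem_U hr 1)) (inv_mem h6)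
      rw [← h2, ← map_inv, ← map_mul, ← map_mul, ← sl2Rep_x, hc,
        show w true = false by simpa [cbA1_pos, cbA1_simple] using h5, sl2Rep_x, h3] at h7
      exact (C.pos_neg_iff r).1 ((StRep.x_mem_Bo_iff h.faith (by simp)).1 (ρ.Up_le_Bo h7)) hr
    exact mul_mem (mul_mem ((sl2Rep K).Up_le_Bo hu) ((sl2Rep K).H_le_Bo hn.mem_H))
      ((sl2Rep K).Up_le_Bo ((sl2Rep K).Uw_le_Up _ hu'))
  · ext i j; fin_cases i <;> fin_cases j <;> simp

theorem commute_pair {r s : ι} (h : ∀ a ∈ ({r, C.neg r} : Set ι), ∀ b ∈ ({s, C.neg s} : Set ι),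
    b ≠ C.neg a ∧ ∀ v, C.vec v ≠ C.vec b + C.vec a) {x y : G} (hx : x ∈ ρ.X r ⊔ ρ.X (C.neg r))
    (hy : y ∈ ρ.X s ⊔ ρ.X (C.neg s)) : x * y = y * x := by
  rw [← PreSt.U_singleton, ← PreSt.U_singleton, ← PreSt.U_union] at hx hy
  exact (ρ.U_le_iff (H := Subgroup.centralizer {y})).2 (fun a ha t =>
    Subgroup.mem_centralizer_singleton_iff.2 ((ρ.U_le_iff (H := Subgroup.centralizer {ρ.x a t})).2
      (fun b hb u => Subgroup.mem_centralizer_singleton_iff.2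
        (ρ.commute_of_none (h a ha b hb).1 (h a ha b hb).2 t u).symm) hy _ rfl)) hx _ rfl |>.symm

/-- The shape `(SL₂ ∘ SL₂).2` of an involution centralizer. -/
def SL2Sq (K : Type*) [Field K] {G : Type*} [Group G] (t : G) : Prop :=
  ∃ L₁ L₂ : Subgroup G, Nonempty (L₁ ≃* SL(2, K)) ∧ Nonempty (L₂ ≃* SL(2, K)) ∧
    (∀ x ∈ L₁, ∀ y ∈ L₂, x * y = y * x) ∧ L₁ ⊓ L₂ = Subgroup.zpowers t ∧
    L₁ ⊔ L₂ ≤ Subgroup.centralizer {t} ∧ (L₁ ⊔ L₂).relIndex (Subgroup.centralizer {t}) = 2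

theorem sl2Sq_of [Finite K] {φ ψ : SL(2, K) →* G} (hφ : Function.Injective φ)
    (hψ : Function.Injective ψ) (h : ∀ x ∈ φ.range, ∀ y ∈ ψ.range, x * y = y * x) {t : G}
    (h1 : φ (-1) = t) (h2 : ψ (-1) = t) (ht : orderOf t = 2)
    (hc : Nat.card (Subgroup.centralizer {t}) = Nat.card K ^ 2 * (Nat.card K ^ 2 - 1) ^ 2) :
    SL2Sq K t := by
  have h3 : φ.range ⊓ ψ.range = Subgroup.zpowers t := by
    refine le_antisymm ?_ (Subgroup.zpowers_le.2 ⟨⟨_, h1⟩, _, h2⟩)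
    rintro _ ⟨⟨g, rfl⟩, hg⟩
    obtain rfl | rfl := Classical.mem_center_SL2_iff.1 (show g ∈ Subgroup.center _ from
      Subgroup.mem_center_iff.2 fun x => hφ (by simpa using h _ ⟨x, rfl⟩ _ hg))
    · simp
    · simp [h1]
  have h4 : φ.range ⊔ ψ.range ≤ Subgroup.centralizer {t} := sup_le
    (fun x hx => Subgroup.mem_centralizer_singleton_iff.2 (h x hx t ⟨_, h2⟩))
    fun x hx => Subgroup.mem_centralizer_singleton_iff.2 (h t ⟨_, h1⟩ x hx).symm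
  refine ⟨_, _, ⟨(MonoidHom.ofInjective hφ).symm⟩, ⟨(MonoidHom.ofInjective hψ).symm⟩, h, h3, h4, ?_⟩
  have h5 := Loc.card_sup_mul_card_inf (H := φ.range) (N := ψ.range)
    ((Subgroup.le_centralizer_iff.1 fun y hy x hx => h x hx y hy).trans
      (Subgroup.centralizer_le_normalizer _))
  have h6 := Loc.card_mul_relIndex h4
  rw [h3, Nat.card_zpowers, ht, ← Nat.card_congr (MonoidHom.ofInjective hφ).toEquiv,
    ← Nat.card_congr (MonoidHom.ofInjective hψ).toEquiv] at h5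
  have h7 : 0 < Nat.card ↥(φ.range ⊔ ψ.range) := Nat.pos_of_mul_pos_right
    (h5 ▸ Nat.mul_pos Nat.card_pos Nat.card_pos)
  refine Nat.eq_of_mul_eq_mul_left h7 ?_
  rw [h6, h5, hc, Classical.card_SL2]
  ring

theorem poin_ne {n : ℕ} {ι : Type} [Fintype ι] [DecidableEq ι] {R : RootSys (Fin n) ι}
    {cm : List (List ℤ)} (hcm : ∀ i j : Fin n, R.car i j = (cm.getD i []).getD j 0) (k : Fin n)
    (N : ℕ) (js : List (Fin n)) (css : List (List ℕ))
    (h : (js.Nodup ∧ ∀ j, j ∈ js ↔ j ≠ k) ∧ allCounts cm N js = css ∧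
      ∀ cs ∈ css, cs.length < N) (q : ℕ) :
    R.poin {i | i ≠ k} q = (css.map (hornerN q)).prod := by
  obtain ⟨⟨h1, h2⟩, rfl, h3⟩ := h
  rw [← RootSys.poin_eq_prod hcm q N js h1 h3]
  simp [h2]

end

variable {D : ChevalleyDatum} {C : ChevBasis (Fin D.rank) (Fin D.nroots)}

theorem IsLink.univ_gpRep (L : IsLink D C.toLieBasis) (hc : C.Cen 0 1) (K : Type*) [Field K] :
    Univ (L.gpRep K) :=
  ⟨L.faithful_gpRep K, L.gpRep_Gp K, L.r3_gpRep K,
    (L.r3_gpRep K).tor_injective_of_ker (L.faithful_gpRep K) (hc.ker_eq_bot K)⟩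

variable {F : Type*} [Field F] [Fintype F] (hF : Odd (Fintype.card F))
include hF

theorem two_ne_zero_of_odd : (2 : F) ≠ 0 := fun h => by
  have := (FiniteField.even_card_iff_char_two (F := F)).1 (by
    have := CharP.ringChar_of_prime_eq_zero Nat.prime_two (by exact_mod_cast h)
    exact this)
  rw [Nat.odd_iff] at hF
  omega

theorem IsLink.exists_conj_sg (L : IsLink D C.toLieBasis) (hc : C.Cen 0 1) {a : Fin D.nroots}
    (ha : ∀ i, 2 ≤ C.vec a i) {s : D.group F} (hs : orderOf s = 2) : ∃ k y, C.vec a k = 2 ∧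
      (∀ i, pr C y (C.vec (C.simple i)) = if i = k then 1 else 0) ∧
        IsConj s ((L.r3_gpRep F).tor (sg F y)) := by
  obtain ⟨K, _, i, hK⟩ := exists_big F (Fintype.card (Fin D.nroots) + Fintype.card (Fin D.rank))
  exact Chev.exists_conj_sg (L.univ_gpRep hc F) (L.univ_gpRep hc K) hK i hF ha hs

theorem two_classes {l n : ℕ} {C : ChevBasis (Fin l) (Fin n)} {G : Type*} [Group G]
    {ρ : StRep C F G} (h : Univ ρ) {T : Tab} (H : TabOf C T) {cm : List (List ℤ)}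
    (hcm : ∀ i j : Fin l, C.car i j = (cm.getD i []).getD j 0) (a : Fin n) (k₁ k₂ : Fin l)
    (hex : (∀ i, 2 ≤ C.vec a i) → ∀ {s : G}, orderOf s = 2 → ∃ k y, C.vec a k = 2 ∧
      (∀ i, pr C y (C.vec (C.simple i)) = if i = k then 1 else 0) ∧ IsConj s (h.r3.tor (sg F y)))
    (y₁ y₂ : List ℤ) (L₁ L₂ : List (List ℤ)) (P₁ P₂ E₁ E₂ : List ℕ) (N : ℕ) (j₁ j₂ : List (Fin l))
    (c₁ c₂ : List (List ℕ))
    (ha : (∀ i : Fin l, 2 ≤ T.vec a i ∧ (T.vec a i = 2 → i = k₁ ∨ i = k₂)) ∧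
      P₁.length ≠ P₂.length)
    (h₁ : chkInv T k₁ y₁ L₁ P₁ E₁ = true) (h₂ : chkInv T k₂ y₂ L₂ P₂ E₂ = true)
    (p₁ : (j₁.Nodup ∧ ∀ j, j ∈ j₁ ↔ j ≠ k₁) ∧ allCounts cm N j₁ = c₁ ∧ ∀ cs ∈ c₁, cs.length < N)
    (p₂ : (j₂.Nodup ∧ ∀ j, j ∈ j₂ ↔ j ≠ k₂) ∧ allCounts cm N j₂ = c₂ ∧ ∀ cs ∈ c₂, cs.length < N)
    {n₁ n₂ : ℕ} (e₁ : Fintype.card F ^ P₁.length * (Fintype.card F - 1) ^ l *
      ((c₁.map (hornerN (Fintype.card F))).prod * (E₁.map (Fintype.card F ^ ·)).sum) = n₁)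
    (e₂ : Fintype.card F ^ P₂.length * (Fintype.card F - 1) ^ l *
      ((c₂.map (hornerN (Fintype.card F))).prod * (E₂.map (Fintype.card F ^ ·)).sum) = n₂) :
    ∃ s t : G, orderOf s = 2 ∧ orderOf t = 2 ∧ ¬ IsConj s t ∧
      (∀ u : G, orderOf u = 2 → IsConj u s ∨ IsConj u t) ∧
      Nat.card (Subgroup.centralizer ({s} : Set G)) = n₁ ∧
      Nat.card (Subgroup.centralizer ({t} : Set G)) = n₂ := by
  have h2 := two_ne_zero_of_odd hF
  obtain ⟨x₁, a₁, b₁, c₁⟩ := card_cent_sg H h h2 h₁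
  obtain ⟨x₂, a₂, b₂, c₂⟩ := card_cent_sg H h h2 h₂
  rw [poin_ne hcm _ _ _ _ p₁, ← @Nat.card_eq_fintype_card F] at *
  rw [poin_ne hcm _ _ _ _ p₂] at c₂
  refine ⟨_, _, orderOf_tor_sg h h2 (r := C.simple k₁) (by simp [a₁]),
    orderOf_tor_sg h h2 (r := C.simple k₂) (by simp [a₂]),
    fun e => ha.2 (b₁.symm.trans ((ncard_Psi_eq h e).trans b₂)), fun u hu => ?_,
    c₁.trans e₁, c₂.trans e₂⟩
  obtain ⟨k, y, h3, h4, h5⟩ := hex (fun i => H.vec a i ▸ (ha.1 i).1) hu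
  refine ((ha.1 k).2 (H.vec a k ▸ h3)).imp ?_ ?_ <;> rintro rfl
  · rwa [pr_ext_simple fun i => (a₁ i).trans (h4 i).symm]
  · rwa [pr_ext_simple fun i => (a₂ i).trans (h4 i).symm]

theorem invG2_aux {C : ChevBasis (Fin 2) (Fin 12)} {G : Type*} [Group G] {ρ : StRep C F G}
    (h : Univ ρ) (H : TabOf C tabG2) (hcm : ∀ i j : Fin 2, C.car i j = (cmG2.getD i []).getD j 0)
    (hex : (∀ i, 2 ≤ C.vec 11 i) → ∀ {s : G}, orderOf s = 2 → ∃ k y, C.vec 11 k = 2 ∧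
      (∀ i, pr C y (C.vec (C.simple i)) = if i = k then 1 else 0) ∧ IsConj s (h.r3.tor (sg F y))) :
    ∃ s : G, (∀ u, orderOf u = 2 → IsConj u s) ∧
    ∀ t, IsConj s t → Nat.card (Subgroup.centralizer ({t} : Set G)) =
      Fintype.card F ^ 2 * (Fintype.card F ^ 2 - 1) ^ 2 ∧ SL2Sq F t := by
  have hq : 1 ≤ Fintype.card F := Fintype.card_pos
  have h2 := two_ne_zero_of_odd hF
  obtain ⟨x, a, -, c⟩ := card_cent_sg (k := 1) (y := [1, 2])
    (L := [[1, 2], [-1, -2]]) (P := [7, 11]) (E := [0, 1]) H h h2 (by decide +kernel)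
  rw [poin_ne hcm 1 3 [0] [[1, 1]] (by decide +kernel)] at c
  have h3 : ∀ (r : Fin 12) (y : Fin 2 → ℤ), (∀ i, Even (C.cov r i - y i)) →
      ρ.h r (-1) = h.r3.tor (sg F y) := fun r y hy => by
    rw [h.r3.h_eq_tor]
    refine congrArg _ (funext fun i => ?_)
    rw [sg, ← mul_inv_eq_one, ← _root_.zpow_sub, (hy i).neg_one_zpow]
  obtain rfl : x = ![1, 2] := pr_ext_simple (C := C) fun i => by
    rw [a, pr_vec, Fin.sum_univ_two, H.car, H.car, H.sim]; revert i; decide +kernel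
  obtain ⟨φ, a₁, b₁, c₁⟩ := exists_sl2_injective h (r := 11) (i := 0)
    (by simp only [C.pos_iff_ht, RootSys.ht_apply, H.vec]; decide +kernel)
    (by rw [H.cov]; decide +kernel)
  obtain ⟨ψ, a₂, b₂, c₂⟩ := exists_sl2_injective h (r := 7) (i := 0)
    (by simp only [C.pos_iff_ht, RootSys.ht_apply, H.vec]; decide +kernel)
    (by rw [H.cov]; decide +kernel)
  rw [h3 _ ![1, 2] fun i => by rw [H.cov]; revert i; decide +kernel] at c₁ c₂
  refine ⟨h.r3.tor (sg F ![1, 2]), fun u hu => ?_, fun t ht => ?_⟩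
  · obtain ⟨k, y, h3, h4, h5⟩ := hex (fun i => by rw [H.vec]; revert i; decide +kernel) hu
    obtain rfl : k = 1 := by rw [H.vec] at h3; clear h4; revert k; decide +kernel
    rwa [← pr_ext_simple fun i => (a i).trans (h4 i).symm] at h5
  obtain ⟨g, rfl⟩ := isConj_iff.1 ht
  have h4 : Nat.card (Subgroup.centralizer {g * h.r3.tor (sg F ![1, 2]) * g⁻¹}) =
      Nat.card F ^ 2 * (Nat.card F ^ 2 - 1) ^ 2 := by
    rw [← Nat.card_congr ((MulAut.conj g).toEquiv.subtypeEquiv (p := (· ∈ Subgroup.centralizer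
      {h.r3.tor (sg F ![1, 2])})) fun x => by
        simp only [Subgroup.mem_centralizer_singleton_iff]
        exact ((MulAut.conj g).injective.eq_iff.symm.trans (by simp))), c]
    simp only [List.map, List.prod_cons, List.prod_nil, hornerN_cons, hornerN_nil,
      List.sum_cons, List.sum_nil, List.length_cons, List.length_nil, Nat.card_eq_fintype_card]
    zify [hq, Nat.one_le_pow 2 _ hq]
    ring
  refine ⟨by simpa using h4, sl2Sq_of (φ := (MulAut.conj g).toMonoidHom.comp φ)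
    (ψ := (MulAut.conj g).toMonoidHom.comp ψ) ((MulAut.conj g).injective.comp a₁)
    ((MulAut.conj g).injective.comp a₂) ?_ (by simp [c₁]) (by simp [c₂]) (by
      rw [Loc.orderOf_conj, orderOf_tor_sg h h2 (r := C.simple 1) (by simp [a])]) h4⟩
  rintro _ ⟨x, rfl⟩ _ ⟨y, rfl⟩
  simpa using congrArg (MulAut.conj g) <| commute_pair (ρ := ρ) (r := 11) (s := 7) (fun a ha b hb => by
    simp only [Fin.ext_iff, Set.mem_insert_iff, Set.mem_singleton_iff, H.neg, ne_eq, funext_iff,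
      Pi.add_apply, H.vec] at ha hb ⊢
    revert a b; decide +kernel) (b₁.le ⟨x, rfl⟩) (b₂.le ⟨y, rfl⟩)

theorem invG2 : ∃ s : chevG2.group F, (∀ u, orderOf u = 2 → IsConj u s) ∧
    ∀ t, IsConj s t → Nat.card (Subgroup.centralizer ({t} : Set (chevG2.group F))) =
      Fintype.card F ^ 2 * (Fintype.card F ^ 2 - 1) ^ 2 ∧ SL2Sq F t :=
  invG2_aux hF (linkG2.univ_gpRep cenG2 F) (tabOf certG2) carG2 (linkG2.exists_conj_sg hF cenG2)

theorem invF4 : ∃ s t : chevF4.group F, orderOf s = 2 ∧ orderOf t = 2 ∧ ¬ IsConj s t ∧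
    (∀ u : chevF4.group F, orderOf u = 2 → IsConj u s ∨ IsConj u t) ∧
    Nat.card (Subgroup.centralizer ({s} : Set (chevF4.group F))) = Fintype.card F ^ 16 *
      (Fintype.card F ^ 2 - 1) * (Fintype.card F ^ 4 - 1) * (Fintype.card F ^ 6 - 1) *
      (Fintype.card F ^ 8 - 1) ∧
    Nat.card (Subgroup.centralizer ({t} : Set (chevF4.group F))) = Fintype.card F ^ 10 *
      (Fintype.card F ^ 2 - 1) ^ 2 * (Fintype.card F ^ 4 - 1) * (Fintype.card F ^ 6 - 1) := by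
  have hq : 1 ≤ Fintype.card F := Fintype.card_pos
  have h := fun n => Nat.one_le_pow n _ hq
  refine two_classes (l := 4) (n := 48) hF (linkF4.univ_gpRep cenF4 F) (tabOf certF4) carF4 47 0 3
    (linkF4.exists_conj_sg hF cenF4) [2, 3, 4, 2] [1, 2, 3, 2]
    [[2, 3, 4, 2], [0, 1, 2, 2], [0, 1, 2, 0], [0, 1, 0, 0], [0, -1, 0, 0], [0, -1, -2, 0],
      [0, -1, -2, -2], [-2, -3, -4, -2]] [[1, 2, 3, 2], [-1, -2, -3, -2]]
    [24, 25, 26, 27, 28, 29, 30, 31, 32, 41, 42, 43, 44, 45, 46, 47]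
    [25, 27, 28, 30, 33, 34, 35, 37, 41, 47] [0, 1, 2, 3, 4, 5, 6, 7] [0, 1] 7 [3, 2, 1] [0, 1, 2]
    [[1, 1, 1, 1, 1, 1], [1, 1, 1, 1], [1, 1]] [[1, 1, 1, 1, 1, 1], [1, 1, 1, 1], [1, 1]]
    (by decide +kernel) (by decide +kernel) (by decide +kernel) (by decide +kernel)
    (by decide +kernel) ?_ ?_
  all_goals
    simp only [List.map, List.prod_cons, List.prod_nil, hornerN_cons, hornerN_nil,
      List.sum_cons, List.sum_nil, List.length_cons, List.length_nil]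
    zify [hq, h]
    ring

omit hF in
theorem chkD8 : chkInv tabE8 0 [4, 5, 7, 10, 8, 6, 4, 2]
    [[4, 5, 7, 10, 8, 6, 4, 2], [0, 1, 1, 2, 2, 2, 2, 2], [0, 1, 1, 2, 2, 2, 2, 0],
      [0, 1, 1, 2, 2, 2, 0, 0], [0, 1, 1, 2, 2, 0, 0, 0], [0, 1, 1, 2, 0, 0, 0, 0],
      [0, 1, 1, 0, 0, 0, 0, 0], [0, 1, -1, 0, 0, 0, 0, 0], [0, -1, 1, 0, 0, 0, 0, 0],
      [0, -1, -1, 0, 0, 0, 0, 0], [0, -1, -1, -2, 0, 0, 0, 0], [0, -1, -1, -2, -2, 0, 0, 0],
      [0, -1, -1, -2, -2, -2, 0, 0], [0, -1, -1, -2, -2, -2, -2, 0],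
      [0, -1, -1, -2, -2, -2, -2, -2], [-4, -5, -7, -10, -8, -6, -4, -2]]
    (List.range' 120 42 ++ List.range' 226 14)
    [0, 1, 2, 3, 4, 5, 6, 7, 7, 8, 9, 10, 11, 12, 13, 14] = true := by
  decide +kernel

omit hF in
theorem chkE7A1 : chkInv tabE8 7 [2, 3, 4, 6, 5, 4, 3, 2]
    [[2, 3, 4, 6, 5, 4, 3, 2], [-2, -3, -4, -6, -5, -4, -3, -2]]
    [121, 123, 124, 126, 127, 128, 130, 131, 132, 133, 135, 136, 137, 138, 139, 141, 142, 143, 144,
      145, 147, 148, 149, 150, 152, 153, 154, 156, 157, 159, 162, 163, 164, 165, 166, 167, 169, 170,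
      171, 172, 174, 175, 176, 178, 179, 181, 184, 185, 186, 188, 189, 191, 194, 195, 197, 200, 204,
      205, 207, 210, 214, 219, 226, 239] [0, 1] = true := by
  decide +kernel

theorem invE8 : ∃ s t : chevE8.group F, orderOf s = 2 ∧ orderOf t = 2 ∧ ¬ IsConj s t ∧
    (∀ u : chevE8.group F, orderOf u = 2 → IsConj u s ∨ IsConj u t) ∧
    Nat.card (Subgroup.centralizer ({s} : Set (chevE8.group F))) = Fintype.card F ^ 56 *
      (Fintype.card F ^ 8 - 1) * ∏ i ∈ Finset.Icc 1 7, (Fintype.card F ^ (2 * i) - 1) ∧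
    Nat.card (Subgroup.centralizer ({t} : Set (chevE8.group F))) = Fintype.card F ^ 64 *
      (Fintype.card F ^ 2 - 1) ^ 2 * (Fintype.card F ^ 6 - 1) * (Fintype.card F ^ 8 - 1) *
      (Fintype.card F ^ 10 - 1) * (Fintype.card F ^ 12 - 1) * (Fintype.card F ^ 14 - 1) *
      (Fintype.card F ^ 18 - 1) := by
  have hq : 1 ≤ Fintype.card F := Fintype.card_pos
  have h := fun n => Nat.one_le_pow n _ hq
  refine two_classes (l := 8) (n := 240) hF (linkE8.univ_gpRep cenE8 F) (tabOf certE8) carE8 239 0 7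
    (linkE8.exists_conj_sg hF cenE8) _ _ _ _ _ _ _ _ 29 [7, 6, 5, 4, 1, 2, 3] [6, 5, 0, 1, 2, 3, 4]
    [[1, 1, 1, 1, 1, 1, 2, 1, 1, 1, 1, 1, 1], [1, 1, 1, 1, 1, 2, 1, 1, 1, 1, 1],
      [1, 1, 1, 1, 2, 1, 1, 1, 1], [1, 1, 1, 2, 1, 1, 1], [1, 1, 1, 1], [1, 1, 1], [1, 1]]
    [[1, 1, 1, 1, 1, 2, 2, 2, 2, 3, 3, 3, 3, 3, 3, 3, 3, 3, 3, 2, 2, 2, 2, 1, 1, 1, 1, 1],
      [1, 1, 1, 1, 2, 2, 2, 2, 3, 2, 2, 2, 2, 1, 1, 1, 1], [1, 1, 1, 1, 2, 1, 1, 1, 1],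
      [1, 1, 1, 2, 1, 1, 1], [1, 1, 1, 1], [1, 1, 1], [1, 1]]
    (by decide +kernel) chkD8 chkE7A1 (by decide +kernel) (by decide +kernel) ?_ ?_
  all_goals
    simp only [List.map, List.prod_cons, List.prod_nil, hornerN_cons, hornerN_nil, prod_Icc_succ_top,
      List.sum_cons, List.sum_nil, List.length_cons, List.length_nil, List.length_append,
      List.length_range', Nat.reduceAdd, Nat.reduceLeDiff, Icc_self, prod_singleton, Nat.reduceMul]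
    zify [hq, h]
    ring

end CF.Chev
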