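import Cfsg.Agent.Chev.TabDef
import Cfsg.Prelude.Def_ChevD4

/-! Packed tables of type D4. -/

namespace CF.Chev

def rowD4_0 : ℕ := 0xc00c00bb0b80b80a509009009009008b08007307006506005805503003002b0280280150c00bd0b80b80b809d09009009009008307b07007006005d05505003002b02802802800b0c00b80b80b50ad09809009008d08507007006806005005004b04303002802802301b0080c00b80b50a80a509809008d08007d07006806005805004b04003b0300280230180130080b80ad0a809d09809008508007507006806005805004304003303002801b01800b0080000b80a509d09809809007d07507007006005805005003b03303003002801300b0080080000b509809809809509007006b06306005005004503d0300300300300230080080080030000ab09809809509009006b06806005b05004d04003503003003003001b0080080050000000a309809509009009006306005805304d04003503003003003003001300800500000000009d09509009009009006005b05305004503d03003003003003003000b00300000000000009008b08307b07306003003003003003003002802802501d01500d00000000000000000008b07006b06306004b03003003002d02802801d01500800800800500000000000000000008506b06806005b04303003002d02802802501800d00800800300000000000000000000007d06306005805303b03002d02802802501800d00800800300000000000000000000000007306005b05305003302d02802802801d01500800800500000000000000000000000000006004b04503d03303002501b01300d008008000000000000000000000000000000000000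

def rowD4_1 : ℕ := 0xc00c00c00c00c00c00c00c00c00c00c00c00b80b80b30ad0a509b09008d08307b0750600c00c00c00c00c00c00c00c00c00bb0b80b80ab0a309809809809308d07006d06506004d0c00c00c00c00c00c00c00c00bd0b80b80b30a809b09809809309008506d06806005d0430c00c00c00c00c00c00c00bd0b80b80b30a809b09809809309009007d06506005805503b0c00c00c00c00c00c00bb0b80b80b80ab0a309809809309009009007506005d0550500350c00c00c00c00c00c00b30ab0a309b09809809009009009009009006004d04503d0350300c00c00c00c00bd0b509009009009009009008307b07006d06506003003003003002b0230c00c00c00bb0b80ad09009009009009008b08007306d06806005d03003003002b02801d

/-- The packed tables of type D4. -/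
def tabD4 : Tab where
  l := 4
  n := 24
  vecT := 0x99a999998999989988998889999889989898889889889888788887888878787887787778888788777877877777777767
  covT := 0x99a999998999989988998889999889989898889889889888788887888878787887787778888788777877877777777767
  carT := 0x88989979798997897799887a99877997979777a78a78a878689886989969797997797789889699777987978777978878
  lenT := 0x555555555555
  simT := 0xc0d0e12
  psiT := 0x8000000088218000000084218000000084208000000084018000000084008000000080008000000004218000000004208000000004018000000004008000000000208000000000017fffffffffff7fffffffffe07ffffffffc007ffffffffbff7ffffffffbe07ffffffffbdf7fffffff80007fffffff7c007fffffff7bff7fffffff7be07fffffff7bdf7fffffff77df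
  srefT := 0x1717161715141711161315101316140f1415120e12121305100f1116110e0d150e110c140f1009130d0a100d0b0c0f0c0c0b080b0a0d070a08070e0409060b0306090a0207080601050504120302050904010308010402070203000600000100
  rowT := Nat.add rowD4_0 (Nat.shiftLeft (rowD4_1) 4608)

end CF.Chev
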