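import Cfsg.Agent.Chev.TabDef
import Cfsg.Prelude.Def_ChevG2

/-! Packed tables of type G2. -/

namespace CF.Chev

def rowG2_0 : ℕ := 0x6006006006006006005305004b04503503006006006006006005b05004b04803d03002d06006006005905105004804603a03002501d06006005f05004e04803b03703002201801306006005704a04804303803002f01e01301006005d05004804503803002802301801000b05505004803d03803002801b01801000300005004d04203103002801d01801600900000004d04803e03002902501801201000100000004303b03002601a01801000f00700000000003303002301801501000500000000000000003002b01b01501000d000000000000000000

/-- The packed tables of type G2. -/
def tabG2 : Tab where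
  l := 2
  n := 12
  vecT := 0xab9b9a998998788777767565
  covT := 0xa999bab98998788757567767
  carT := 0x987b89977aa56b9679879578
  lenT := 0xf57d5f
  simT := 0x607
  psiT := 0x8000000000628000000000618000000000418000000000218000000000208000000000017fffffffffff7fffffffffe07fffffffffdf7fffffffffbf7fffffffff9f7fffffffff9e
  srefT := 0xa0b0b06090807090804050a060103070402020300050100
  rowT := rowG2_0

end CF.Chev
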